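import Cfsg.Agent.Lib.Helper28.TCCheck
import Cfsg.Agent.Lib.Helper56.SpQ85.Pres

set_option autoImplicit false
set_option linter.unusedVariables false

namespace Cfsg.Agent.Lib.Helper56.SpQ85

open Cfsg.Agent.Lib.Helper56.SpQ (Gen gens mem_gens relE rels hinv)
open Cfsg.Agent.Lib.Helper28.TC

noncomputable section

def hotA_c0 : ℕ := 0x2418500002615900002467991586365a850dc00000000000009012a383b8fd263e0e0000000008f5623c568ec640000000000000738d4000000001bd436fdbdc57000001d36d000000000940f4000000002375773105c83872c35783b00001c73e00000000085570000084d5c000000001ca40000000000000000000000023a2000001352349cad34024d8251331000010e464291d431d0000000008e4d13f064f07942204dc880000734680000000000000000000000000000000724740000000000000000000000000012f1745454000045895192e4c01512174c4553b13430990727440993a034e04139044c850000000001410d00001400e0000000000000000000000000004b82c00004cc2800000000000004f41d3e08000000000000000000000000000000000000000000000000000000000000000000000000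
def hotA : ℕ := hotA_c0
def coldA_c0 : ℕ := 0x5540001e94000000000000000000735cc101f30000000000000000007b400015d200007b400015d10000355701437200005d4000159100000000000000000000000000000000000000000000001f400015140000684000159000001f4000151200001f400015110000000000000000000000000000000033400011d4000033400011d2000033400011d100000000000000000000000000000000000000000000005a40000fd4000000000000000000000000000042080ec0000fa400003c474102f400003d4681c4710000000000000000003c4f410272000000000000000000000000000000001b4d02c43100000000000000000000000000000000864000165400001c40000e5300006240000f5400001c40000e5100001a414144710000000000000000007040001bd3000000000000000000000000000000008540000d93000000000000000000335d018473000000000000000000000000000000001c40000e50000000000000000000000000000000000000000000000000000000000000000000000000003a400020130000000000000000001440000ad000004f4201447100000440000b5300001440000ad300001640000b100000000000000000002540000a5000002640000a1000000c40000811000000000000000000000000000000005640001a13000002400009900000434000085400000d40000791000013400008d00000000000000000003940000714000000000000000000000000000000000000000000000000000000000000000000000000000000000000000000000000000000374000199200000000000000000000000000000000000000000000000000000000000000000000000000000000000000000a4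00005d100002c4000059400000000000000240a11c0000563030811c000055200000a400005d40000134941c3b300001640000c92000008400013d10000104980c3320000104ac0c3b300001189c2847300000140001411000023400004d40000094000055300001640000c93000000000000000000000000000000001d400011530000000000000000001d400011520000000000000000000000000000000000000000000000000000000000000000000000000000000000000a1510c00002a20000000000000000000440000b5100000000000000000000000000000000000000000000000f4000095100000f4000095200000000000000000000000000000000000000000000000000000000000000000000000000000000000000000000000000000000000000000000000000000000000000000000000000000000000000000000000000000000000000000000000000000000000000000000000000000000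
def coldA : ℕ := coldA_c0
def treeT_c0 : ℕ := 0x2a03b53473a44e744db28231cf2639c2c334d8261ae4925b968b0cc16251abc4257702aed115908ab49455906ab1c5556a2a24354584a8345523029c504d6488ec091ca0a3c40428688108500fa1fc133f8027ead0f9e89f3f33d7e27af50f1f19e3d23c4c078f04edd91d3103a54672888e4609ca4438742709d0ddc99bb80376a66cdc8d9889b364356a26aa50d1a19a3313464866c4ccd81199a0335e260700ac82150122410446750897091193200a440604816a0fac21f3c03e14c78c90f1a11e3683aac474aa0e2a31c52038a0c6d390da611b4a83490468c20ca33194423285061018c1f2183c2304c45c920b1d0160662a10854208a934142422840c487988822111e22208c407908031102281e70c38d8870c40d3421a35030c9861810c2e81658c2ca9059400b144144c4284a049230822410404203203874061e20c3901469828c2051620a290104981884020e6041880828010430106402084040a0000000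
def treeT : ℕ := treeT_c0
def rowT_c0 : ℕ := 0x9594939291908f8e8d8b898483827d7c78777674736f6d6c6a696361605e5c5b5958575655534d494842403f3e3d3c3b3a3837363534333022211f1d1c1b1a1918161413120f0e0d0c0b0a09080706050403020100
def rowT : ℕ := rowT_c0

end

end Cfsg.Agent.Lib.Helper56.SpQ85
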