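import Cfsg.Agent.Lib.Helper28.TCCheck
import Cfsg.Agent.Lib.Helper56.SpQ85.Pres

set_option autoImplicit false
set_option linter.unusedVariables false

namespace Cfsg.Agent.Lib.Helper56.SpQ85

open Cfsg.Agent.Lib.Helper56.SpQ (Gen gens mem_gens relE rels hinv)
open Cfsg.Agent.Lib.Helper28.TC

noncomputable section

def hotE0_c0 : ℕ := 0xa51de8e95a1a527d939ce4a6e919a24254628bdae277098e322159925e000000000000000000242708d5aa7a838116200577f15800007cd51ef4e7a529e54900001dd4392a2a93966d909b041979d0000000000000089a3400009adba4f6d660f62e8e8d211833b00000000000000000097190000094e3d693859cfd633e000015d3c858fd573a544e6208b80e09ff817ee0145347c9f9292c499491f5100000fc2d7b9f4f62a3c8a400007a1f1e47b3a080e62738098000036891dc796d5d9af753407566605897d976c5717582695596d505a5a184b81c2d06cb01a511540000000009c17264c0942f468b8fb4f4a14c8a2b3d534f14c00000e54737d1917253651077151bc506c1239d20661118040cf402dcdcb3362bcd4540c144609b311185876231c08871131ac84651f17c7832090b8202a0714c64230b07028310f0b438290d0440c0f0502c101006018080001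
def hotE0 : ℕ := hotE0_c0
def coldE0_c0 : ℕ := 0x769cc0c23730306db00c1f630308d8c0c1b8e0310c00018600006a80001be8b010fc000162770110c00000000000000000000000000000231000069a080443000057800015a000055800000000005380001360000498000122000000000010a00008980000000000418000102590a10c00000000000000000003e0306c0000008f0308ddc1c3f00003c8ec0c1f4d0308c0000ea000000000000000000000000005e090fc000000370307c0000de00003e80000f600000000000ee00005f40000e60000388000000330308ccc0c1f330306c0000ce00000000000ae2a0308c900c1b00000000000b200000000000a600002880000001f0308c7c0c1b00001f800009a000025800000000002380000001c0308c700c1f00001c86c0c1f1b0306c0000001a0308c000000190308c640c1f000000000006e00001a80000660000000000000000000000005a150307c540c1b00002e4500c230000000480c1f110307c440c1b0000000400c1f100306c0000bd0f0308c000052000516c000046000000000004200000f80000000b0308c2c0c1f0b0306c00002e0a0306c000000090308c200c1f00002184c343f070308c180c23060307c000022000007800001a0000000100c23030307c080c23020307c080c1b0000028040c1f010306c000000000308c00044b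
def coldE0 : ℕ := coldE0_c0
def tfT0_c0 : ℕ := 0x42a74a8d09f39cbc970dfbb8ebd72b955154092f9ecc90ea6a24e9542366b522c8d159308904c356e99b3168e0b962a6899222787a94280f8b3a70d903220386282848e1a301040614080
def tfT0 : ℕ := tfT0_c0

end

end Cfsg.Agent.Lib.Helper56.SpQ85
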