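import Cfsg.Agent.Lib.Helper28.TCCheck
import Cfsg.Agent.Lib.Helper56.SpQ85.Pres

set_option autoImplicit false
set_option linter.unusedVariables false

namespace Cfsg.Agent.Lib.Helper56.SpQ85

open Cfsg.Agent.Lib.Helper56.SpQ (Gen gens mem_gens relE rels hinv)
open Cfsg.Agent.Lib.Helper28.TC

noncomputable section

def hotE1_c0 : ℕ := 0xa7212928ea21e67f6e9d5e2706a9958a5685a4654000097df4000091d7c000086d6000008415e558fa6e5a065600000000000001f8557d9fa608c7b58400007852287949d249b84100001b25a6a9000000698fc0000680f9c03f9fa4dd43f00001913c9be4400000000000005ece800005d4e4000099241ec7c00002488a57cdd945d564d800006c5d54d3586a220f868160df77f4acc4000000001212740cac00003e08c000000000ee2173d25d04a781e8000000000dc1f00000d61e00001b7776a5d1a57267dc0ca1c641acc41b5e99974642e8695e5e561714c592b064a418000012a5400000000024458000023455045000000000020c492051444487b112a490f74e1b83ced4b1a038db453550c5c0d324f4c33b2e4e0ab3428ccc480b240b88c2c134503e09208a07a250d01c6d2219c805b1d098184717078143d1305c103310094301d0a05820080201c0c0101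
def hotE1 : ℕ := hotE1_c0
def coldE1_c0 : ℕ := 0x83800023600007880001b600007780001a60000618000212550511c000000730711c000000840410c000000000057800000000005695c0c2b76020fc00015600000000000000000000000152530210c00022e00006080000000000478fc0c2738030bc000102000000000016600003f800000000003e800000000003d80001c53e030ac0001b900000000000ee380309c000000000000000000000003980000000000388000000000000124083f00000000002260000368ec083f000035800000073030ac0000d2000000000000000000000000000000308000000000000000009a060711c000000000022800000000000000000823d030bc0001260000000000000000000000007a000000000007600000000000000000000000000000000000006e000000000006a000000000000000001980000000000000000000000018800005e000000000000000000000000000000158000000000014800013e00000000000000000118400c270000274000042010511c00000000000e800000000000d8000000000000000003200000000000000000000000000000000000002a000000000000013010ac00002200000000000000000068000000000000000000000000580000000000048000000000003800000000000001c0c2b000711c000006000000000044f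
def coldE1 : ℕ := coldE1_c0
def tfT1_c0 : ℕ := 0x489911f4376e64d38ade6d4611a5d2a0a9a294f454259e8e73294d90413ee10c73a7162d330a03d7e5de1674558b566517ae1c3558c4c9111e14488880c6cd180a4c210063c5890e04100
def tfT1 : ℕ := tfT1_c0

end

end Cfsg.Agent.Lib.Helper56.SpQ85
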