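import Cfsg.Agent.Lib.Helper28.TCCheck
import Cfsg.Agent.Lib.Helper56.SpQ85.Pres

set_option autoImplicit false
set_option linter.unusedVariables false

namespace Cfsg.Agent.Lib.Helper56.SpQ85

open Cfsg.Agent.Lib.Helper56.SpQ (Gen gens mem_gens relE rels hinv)
open Cfsg.Agent.Lib.Helper28.TC

noncomputable section

def hotE2_c0 : ℕ := 0xa5a2a8f95a15d2816e9de426d649da4a58758c5fa255c976300000a565a1d5800000000000002435c8315e08590000000007e95400008c239f15d7ade5e34800001ea7c765ddd87800002578fa1250000000001a43f718fc0000a024d9a3d000019354624ec0000000017d3a0000000009b24400005bd056b4000001613700001f07d89234000054cda0783872260b8451cd1f980649ac0000000011e253f8900000638f000003c08400007490cea20789ed0b213787c000000001d14a000016e625a985a37133071996d63d39886a5f19cc01b2f075605f54968ae1951958a62c000009e2300000931646c580000294cc8b2b0000085120000108121f4451d513f5409d311cc3cef4c3a524dd4618838bb3832cf8bf3915830ad351402c4a15248bc4917104244e13210a47c260d8207222184782806154684f180801440140d440130309c341f0a028081207024100201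
def hotE2 : ℕ := hotE2_c0
def coldE2_c0 : ℕ := 0x89a4c0c3700007380001b600008f800018e770211c0001d200007d800016e58050dc000000760206c00015e000000000000000000000002310000568000162000000000000000005480000007c030cc000172000078800011e000000124081b0000769840c370000000fc0c33000000000000000000000000fa00007040000003c030cc0000f2000000000014e00003a800000000000000000e60000000000000000000000000000004080000fe00000000000da000000134081b000000000000000003595408270000000cc0c3300003380000003b0209c0000000000000000092000023800000069050dc0000000000208000000000042800007e000000000012d00001e80000000000000f814370000000700c33370206c6c0c3300001b800000000004d8000000000000000006a00001c800000018030cc00006200000000000ae000000000008a000000000005600002e4000000170209c480c33000000000004600000000000a10000108000000000000058081b00000e8000000000000000000000000d864082700000002c0c3300000b800000000000a8000052000000028084700000884c102700000000000000000078202c3f05030cc00001600000000000000000048000000060209c00000a0000000040c3300000180000000000000000453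
def coldE2 : ℕ := coldE2_c0
def tfT2_c0 : ℕ := 0x4aa701f4e75420c69751ab16731b32850e6d2514532f493d52943164a08f1241e789559a5ae5c3f2ef573b2c61bb428c0e1d1cb06a24e8c59f244c4100e6cc852a282111e086090218180
def tfT2 : ℕ := tfT2_c0

end

end Cfsg.Agent.Lib.Helper56.SpQ85
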