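import Cfsg.Agent.Lib.Helper28.TCCheck
import Cfsg.Agent.Lib.Helper56.SpQ85.Pres

set_option autoImplicit false
set_option linter.unusedVariables false

namespace Cfsg.Agent.Lib.Helper56.SpQ85

open Cfsg.Agent.Lib.Helper56.SpQ (Gen gens mem_gens relE rels hinv)
open Cfsg.Agent.Lib.Helper28.TC

noncomputable section

def hotE3_c0 : ℕ := 0xa61e69095a2a0e7c6d9e246799299d9252618b576295f98a30000087d60000000000000084972445f8295a899400001fe550000000007d5f5f47e00000000000002979676d29ba4300001ae406b164000000001a23e7058c0000670f67b9300001963c62d258548604e8000000000000099a41c2705b4e2518f594de288d000022c8e84618000053cd5ab7487a29493482611fd814b538000000001232e400b000004b150f421000000000769e18a6a611a4e41f43c84000000001b97700000d21d6b5d4ce1c685c59b6e655acc620601a0be1a5b18964602c8654e5a5215ca72400000a0222605800004894400003fd40891321c4800000000081114344918162a0cc750f27cc4f34d314ece34717834d141334fc580c2f4e4b136148604c1425cc0430912c5c882b218a880270e01c74230b0185d1e15c6c240b06c1042150540c37100ac380e02068281408034140301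
def hotE3 : ℕ := hotE3_c0
def coldE3_c0 : ℕ := 0x789600c3b00008280001b2380311c000246000063800018200005c800017a8b060ac0000000000578000000000000000000000005b80002310000559cc08330000000000152000000000000000007c94c081f00000000000000000001d8081f000049800010a00000000000fe000058800000000000000000f66f0a11c00000000003c800000000000000000ee000048800011e0000398000000000000000000061020ac0001be000037800000000003696c0833000000000000056020ac000000000034818144300000000000ce000000000000000004d800000000000000000b600002b800000030020ac00008200000000000001c030ece808333a0207c00007a00004c4000000000000100082b0000000000072000000000006e0000000000000370611c00007e0000000000066000000000000000001880000000000000c828470000000000086000015800000024020cc00000023020cc00004a0000118000000000000000004200002940000bd000032800003a160207c0000001a020ac00000000000c8000000000000000002e00000000000000a020cc00004e000000000002214020cc0000000000000000000000006800000000000580000000000000040c3b000003800000000000281c0833000000000000600000000000000000000000457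
def coldE3 : ℕ := coldE3_c0
def tfT3_c0 : ℕ := 0x44a71decfa0e9c3696c9bb0a5163545aad4b34e9a8a5593914d933109f8128f485cbe1bb84620977ef9e1a2ae5a9468c4d8e3a9062a502d1a022209900c702992c28192043c681121c200
def tfT3 : ℕ := tfT3_c0

end

end Cfsg.Agent.Lib.Helper56.SpQ85
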