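import Cfsg.Agent.Lib.Helper28.TCCheck
import Cfsg.Agent.Lib.Helper56.SpQ85.Pres

set_option autoImplicit false
set_option linter.unusedVariables false

namespace Cfsg.Agent.Lib.Helper56.SpQ85

open Cfsg.Agent.Lib.Helper56.SpQ (Gen gens mem_gens relE rels hinv)
open Cfsg.Agent.Lib.Helper28.TC

noncomputable section

def hotE4_c0 : ℕ := 0xa6a3a8d74a2e5283919c99282939a5ba5a7ea665a2b7b88d640000935d40000000021957000020e568cdf65b838095400000000000009663e328479d222a8d00001df6075d05bb6b6d1024e8aa3255a83f00000000070d259e3d9aa41d53d00001bc7763539875a000017f3e0000177399c64973385c5524b5f779e64c61000015b3685de55535619a6228c52cd218878361601825c1880000494ac0000408a4fa23631a800000000000003b081c470799f0000038888000036079be3f35075d6786cdd9a7735f99d9d6f3206d79393086976655c98cb61956975545b52961062c2885d1423268c09618470608f15414cd24520000101500000109501fc50aa251e440f94f385186a0e3ad28640d35d10d34216830c73c304e8b537254bca132114288e2d1f8983f130f0203a071e09030061a484631f1647022051105819030ec4839110bc3c210b030101809014040402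
def hotE4 : ℕ := hotE4_c0
def coldE4_c0 : ℕ := 0x8d80001ce820911c0002420000639b0083b3e0411c0001f6760208c0001ea0000588000000890a0bc000000000000000015a000000000015600007ca10202f0000548000000000000000000060020edf4244700004796c0837000000000017e000040888104700003f800022600000000000fa00000000000006f080ec0000f200008f80001b900000000001da00004d800016600000000000f600000000000e200000000000de0000538d41047420208c00018200000000000d600005f40000d23a0208c000000000033800000000000000000000c0411c00000000002a8000000000028800008a530911c000000000000000000000001f80001be0000000000000000021800000000001d80001c900001c8000000000000000000039020dc00000000001a800019100001980000000000000000062000000000000000000000000ae000016800013915020ec00005e00002e40000522a0411c00000000000008c083700000000000a100001388c182f00000f80000001e020dc0000360000000000032000000000000000000b8000000000000000000015020dc000000000009800000010020dc20082f000007800001a000000000001600000000000000000000000012000000000000a0000000000000000000000000001020dc0000000000008000000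
def coldE4 : ℕ := coldE4_c0
def tfT4_c0 : ℕ := 0x4c814a7baa2fa35467058458f3643554f255359393425d417b770822319679a4972ecd3f510cfab44f4b23489ca3652c8e1d32b4d951694c21244c790221460d2e104820c1c70a0620001
def tfT4 : ℕ := tfT4_c0

end

end Cfsg.Agent.Lib.Helper56.SpQ85
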